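import Mathlib
import Groth.Prelude.Def_DCoh2
import Groth.Agent.Lib.Helper74.ModTrunc.ModTower
import Groth.Agent.Lib.Helper32.DProd
import Groth.Agent.Lib.Helper1.AffineVanishing
import Groth.Agent.Lib.Helper83.ModCoh

/-!
# Objects of `D_QCoh(O_X)` are derived limits of their truncations (helper30)

For a scheme `X` and `E ∈ D(O_X)` with quasi-coherent cohomology sheaves, the countable product of the
truncations `τ_{≥ -n} E` exists in `D(O_X)` and `E` is the derived limit of the tower of its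
truncations (Stacks 08D5-type statement; from helper74's `isRlimVia_truncTower_modSite` and affine
vanishing).
-/

set_option autoImplicit false
universe u
open CategoryTheory CategoryTheory.Limits AlgebraicGeometry TopologicalSpace Opposite
attribute [local instance] HasDerivedCategory.standard

namespace Groth.Agent.Lib.Helper30.DQC

variable (X : Scheme.{u})

instance enoughInjectives_modules : EnoughInjectives X.Modules :=
  (inferInstance : EnoughInjectives (SheafOfModules.{u} X.ringCatSheaf))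

theorem hasProduct_truncTower (E : DCoh.D X) : HasProduct (CohCx.truncTower E) :=
  Groth.Agent.Lib.Helper32.DProd.hasProduct_of_kInjective_reps _ (fun n => by
    have : (CohCx.truncTower E n).IsGE (-(n : ℤ)) := inferInstance
    exact Groth.Agent.Lib.Helper32.DProd.exists_kInjective_rep_of_isGE
      (CohCx.truncTower E n) (-(n : ℤ)))

variable {X}

lemma exists_affine_le {U : X.Opens} {x : X} (hx : x ∈ U) :
    ∃ W : X.Opens, IsAffineOpen W ∧ x ∈ W ∧ W ≤ U := by
  obtain ⟨_, ⟨V, hV, rfl⟩, hxV, hVU⟩ := X.isBasis_affineOpens.exists_subset_of_mem_open hx U.2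
  exact ⟨V, hV, hxV, hVU⟩

theorem isRlimVia_truncTower (E : DCoh.D X) (hE : DCoh.IsQCohD E)
    [hP : HasProduct (CohCx.truncTower E)] :
    CohCx.IsRlimVia (CohCx.truncTower E) (CohCx.truncTowerMap E) E (CohCx.toTruncTower E) := by
  refine @Groth.Agent.Lib.Helper74.ModTrunc.isRlimVia_truncTower_modSite _ _ _ X.sheaf _ E hP
    {U : X.Opens | IsAffineOpen U} ?_ ?_
  · intro U
    refine ⟨{W : X.Opens // IsAffineOpen W ∧ W ≤ U}, fun W => W.1, fun W => homOfLE W.2.2, ?_,
      fun W => W.2.1⟩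
    intro x hx
    obtain ⟨W, hW, hxW, hWU⟩ := exists_affine_le hx
    exact ⟨W, homOfLE hWU, ⟨W, 𝟙 _, homOfLE hWU, Presieve.ofArrows.mk
      (⟨W, hW, hWU⟩ : {W : X.Opens // IsAffineOpen W ∧ W ≤ U}), Subsingleton.elim _ _⟩, hxW⟩
  · intro V _ m
    refine ⟨(-m).toNat, by omega, fun T hT => ?_⟩
    refine ⟨{W : X.Opens // IsAffineOpen W ∧ ∃ h : W ≤ V, T.arrows (homOfLE h)}, fun W => W.1,
      fun W => homOfLE W.2.2.choose, fun W => W.2.2.choose_spec, ?_, ?_⟩
    · intro x hx
      obtain ⟨W', g, hg, hxW'⟩ := hT x hx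
      obtain ⟨W, hW, hxW, hWW'⟩ := exists_affine_le hxW'
      have hWV : W ≤ V := hWW'.trans g.le
      have hTW : T.arrows (homOfLE hWV) := by
        have := T.downward_closed hg (homOfLE hWW')
        exact this
      exact ⟨W, homOfLE hWV, ⟨W, 𝟙 _, homOfLE hWV, Presieve.ofArrows.mk
        (⟨W, hW, hWV, hTW⟩ : {W : X.Opens // IsAffineOpen W ∧ ∃ h : W ≤ V, T.arrows (homOfLE h)}),
        Subsingleton.elim _ _⟩, hxW⟩
    · intro W n hn k hk
      obtain ⟨q, rfl⟩ : ∃ q : ℕ, k = q + 1 := ⟨k - 1, by omega⟩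
      have hq : (DCoh.HD E (m - ((q + 1 : ℕ) : ℤ))).IsQuasicoherent := hE _
      exact Groth.Agent.Lib.Helper1.subsingleton_HU_of_isAffineOpen
        (DCoh.HD E (m - ((q + 1 : ℕ) : ℤ))) W.1 W.2.1 q

end Groth.Agent.Lib.Helper30.DQC
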