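import Mathlib
import Groth.Agent.Lib.Helper83.H0Bij

/-!
# Maps out of `S[0]` in a derived category and the map `h0` (helper30)

`BijS S φ`: composition with `φ : K ⟶ K'` is bijective on maps out of `S[0]`.
* `h0_bijective_of_bijS`: if `π : K ⟶ K'` with `K' ∈ D^{≥0}` induces an isomorphism on `H^0` and a
  bijection on maps out of `S[0]`, then `h0 : Hom(S[0], K) → Hom(S, H^0 K)` is bijective.
* `bijective_comp_H0_map`: if `h0` is bijective for `K` and `K'` and `φ : K ⟶ K'` is bijective on maps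
  out of `S[0]`, then composition with `H^0(φ)` is bijective on maps out of `S`.
-/

set_option autoImplicit false
universe w v u

namespace Groth.Agent.Lib.Helper30.DQC

open CategoryTheory CategoryTheory.Limits DerivedCategory
open Groth.Agent.Lib.Helper83.SingleHom Groth.Agent.Lib.Helper83.H0Bij

variable {A : Type u} [Category.{v} A] [Abelian A] [HasDerivedCategory.{w} A]

/-- composition with `φ` is bijective on maps out of `S[0]` -/
def BijS (S : A) {K K' : DerivedCategory A} (φ : K ⟶ K') : Prop :=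
  Function.Bijective (fun x : (singleFunctor A 0).obj S ⟶ K => x ≫ φ)

/-- `h0` is bijective on maps `S[0] ⟶ K` -/
def H0Bij (S : A) (K : DerivedCategory A) : Prop :=
  Function.Bijective (h0 : ((singleFunctor A 0).obj S ⟶ K) → (S ⟶ (homologyFunctor A 0).obj K))

lemma BijS.of_isIso (S : A) {K K' : DerivedCategory A} (φ : K ⟶ K') [IsIso φ] : BijS S φ := by
  refine ⟨fun x y h => (cancel_mono φ).1 h, fun y => ⟨y ≫ inv φ, ?_⟩⟩
  change (y ≫ inv φ) ≫ φ = y
  rw [Category.assoc, IsIso.inv_hom_id, Category.comp_id]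

lemma BijS.comp {S : A} {K K' K'' : DerivedCategory A} {φ : K ⟶ K'} {ψ : K' ⟶ K''}
    (h1 : BijS S φ) (h2 : BijS S ψ) : BijS S (φ ≫ ψ) := by
  have h := Function.Bijective.comp h2 h1
  have e : (fun x : (singleFunctor A 0).obj S ⟶ K => x ≫ φ ≫ ψ) =
      (fun y : (singleFunctor A 0).obj S ⟶ K' => y ≫ ψ) ∘
        (fun x : (singleFunctor A 0).obj S ⟶ K => x ≫ φ) := by
    funext x
    exact (Category.assoc _ _ _).symm
  change Function.Bijective (fun x : (singleFunctor A 0).obj S ⟶ K => x ≫ φ ≫ ψ)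
  rw [e]
  exact h

/-- cancel a bijective second map -/
lemma BijS.of_comp_right {S : A} {K K' K'' : DerivedCategory A} {φ : K ⟶ K'} {ψ : K' ⟶ K''}
    (h12 : BijS S (φ ≫ ψ)) (h2 : BijS S ψ) : BijS S φ := by
  refine ⟨fun x y h => h12.1 ?_, fun y => ?_⟩
  · change x ≫ φ ≫ ψ = y ≫ φ ≫ ψ
    rw [← Category.assoc, ← Category.assoc]
    exact congrArg (· ≫ ψ) h
  · obtain ⟨x, hx⟩ := h12.2 (y ≫ ψ)
    refine ⟨x, h2.1 ?_⟩
    change (x ≫ φ) ≫ ψ = y ≫ ψ
    rw [Category.assoc]
    exact hx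

/-- cancel a bijective first map -/
lemma BijS.of_comp_left {S : A} {K K' K'' : DerivedCategory A} {φ : K ⟶ K'} {ψ : K' ⟶ K''}
    (h12 : BijS S (φ ≫ ψ)) (h1 : BijS S φ) : BijS S ψ := by
  refine ⟨fun x y h => ?_, fun z => ?_⟩
  · obtain ⟨x', rfl⟩ := h1.2 x
    obtain ⟨y', rfl⟩ := h1.2 y
    have h' : x' ≫ φ ≫ ψ = y' ≫ φ ≫ ψ := by
      rw [← Category.assoc, ← Category.assoc]
      exact h
    rw [h12.1 h']
  · obtain ⟨x, hx⟩ := h12.2 z
    exact ⟨x ≫ φ, (Category.assoc _ _ _).trans hx⟩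

lemma BijS.of_eq {S : A} {K K' : DerivedCategory A} {φ ψ : K ⟶ K'} (h : BijS S φ) (e : φ = ψ) :
    BijS S ψ := e ▸ h

theorem h0Bij_of_bijS [EnoughInjectives A] (S : A) {K K' : DerivedCategory A} (π : K ⟶ K')
    [K'.IsGE 0] (hπ : IsIso ((homologyFunctor A 0).map π)) (hb : BijS S π) : H0Bij S K := by
  have hK' := h0_bijective K' S
  constructor
  · intro x y hxy
    apply hb.1
    apply hK'.1
    change h0 (x ≫ π) = h0 (y ≫ π)
    rw [h0_postcomp, h0_postcomp, hxy]
  · intro f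
    obtain ⟨y, hy⟩ := hK'.2 (f ≫ (homologyFunctor A 0).map π)
    obtain ⟨x, hx⟩ := hb.2 y
    refine ⟨x, ?_⟩
    have h1 : h0 x ≫ (homologyFunctor A 0).map π = f ≫ (homologyFunctor A 0).map π := by
      rw [← h0_postcomp]
      exact (congrArg h0 hx).trans hy
    exact (cancel_mono ((homologyFunctor A 0).map π)).1 h1

lemma H0Bij.of_iso {S : A} {K K' : DerivedCategory A} (e : K ≅ K') (h : H0Bij S K) : H0Bij S K' := by
  constructor
  · intro x y hxy
    have h1 : h0 (x ≫ e.inv) = h0 (y ≫ e.inv) := by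
      rw [h0_postcomp, h0_postcomp, hxy]
    have h2 := h.1 h1
    exact (cancel_mono e.inv).1 h2
  · intro f
    obtain ⟨x, hx⟩ := h.2 (f ≫ (homologyFunctor A 0).map e.inv)
    refine ⟨x ≫ e.hom, ?_⟩
    rw [h0_postcomp, hx, Category.assoc, ← Functor.map_comp, e.inv_hom_id,
      CategoryTheory.Functor.map_id, Category.comp_id]

/-- composition with `H^0(φ)` is bijective on maps out of `S` -/
theorem bijective_comp_H0_map {S : A} {K K' : DerivedCategory A} (φ : K ⟶ K')
    (hK : H0Bij S K) (hK' : H0Bij S K') (hb : BijS S φ) :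
    Function.Bijective (fun f : S ⟶ (homologyFunctor A 0).obj K =>
      f ≫ (homologyFunctor A 0).map φ) := by
  constructor
  · intro f g hfg
    obtain ⟨x, rfl⟩ := hK.2 f
    obtain ⟨y, rfl⟩ := hK.2 g
    have h1 : h0 (x ≫ φ) = h0 (y ≫ φ) := by
      rw [h0_postcomp, h0_postcomp]
      exact hfg
    rw [hb.1 (hK'.1 h1)]
  · intro g
    obtain ⟨y, rfl⟩ := hK'.2 g
    obtain ⟨x, hx⟩ := hb.2 y
    refine ⟨h0 x, ?_⟩
    change h0 x ≫ (homologyFunctor A 0).map φ = h0 y
    rw [← h0_postcomp]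
    exact congrArg h0 hx

end Groth.Agent.Lib.Helper30.DQC
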