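import Mathlib
import Groth.Agent.Lib.Helper30.DQC.H0Crit
import Groth.Agent.Lib.Helper83.TruncTower
import Groth.Agent.Lib.Helper74.ModTrunc.Devissage
import Groth.Agent.S0943
import Groth.Agent.S0880

/-!
# Maps out of `S[0]` into an object which is the derived limit of its truncations (helper30)

`A` abelian, `S : A`, `E ∈ D(A)` such that `Ext^k(S, H^q(E)) = 0` for all `q` and all `k > 0`, and
such that `E` is the derived limit of its truncations `τ_{≥ -n} E`.  Then
`Hom(S[0], E⟦m⟧) → Hom(S[0], (τ_{≥ a} E)⟦m⟧)` is bijective for `a ≤ m`, and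
`h0 : Hom(S[0], E⟦m⟧) → Hom(S, H^0(E⟦m⟧))` is bijective.
-/

set_option autoImplicit false
universe w w' u

namespace Groth.Agent.Lib.Helper30.DQC

open CategoryTheory CategoryTheory.Limits Pretriangulated DerivedCategory DerivedCategory.TStructure
open Groth.Agent.Lib.Helper83.TruncTower

variable {A : Type (u + 1)} [Category.{u} A] [Abelian A] [HasDerivedCategory.{w} A]
  [HasExt.{w'} A]

section

variable (S : A) (E : DerivedCategory A)
  (hS : ∀ (q : ℤ) (k : ℕ), 0 < k →
    Subsingleton (Abelian.Ext.{w'} S ((homologyFunctor A q).obj E) k))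

include hS in
/-- one step of the tower of truncations -/
lemma bijS_step (a b m : ℤ) (hab : a + 1 = b) (hbm : b ≤ m) :
    BijS S (((t.natTransTruncGEOfLE a b (by omega)).app E)⟦m⟧') := by
  constructor
  · intro x y hxy
    have h0 : (x - y) ≫ ((t.natTransTruncGEOfLE a b (by omega)).app E)⟦m⟧' = 0 := by
      rw [Preadditive.sub_comp]
      exact sub_eq_zero.2 hxy
    have := trans_injective S E a b m hab (fun k hk => hS a k (by omega)) (x - y) h0
    exact sub_eq_zero.1 this
  · intro ψ
    exact trans_surjective S E a b m hab (fun k hk => hS a k (by omega)) ψ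

include hS in
/-- finitely many steps of the tower of truncations -/
lemma bijS_natTrans (a m : ℤ) : ∀ (b : ℤ) (hab : a ≤ b), b ≤ m →
    BijS S (((t.natTransTruncGEOfLE a b hab).app E)⟦m⟧') := by
  intro b hab
  induction b, hab using Int.leInduction with
  | base =>
    intro _
    have e : ((t.natTransTruncGEOfLE a a (le_refl a)).app E)⟦m⟧' = 𝟙 _ := by
      rw [t.natTransTruncGEOfLE_refl_app, CategoryTheory.Functor.map_id]
    rw [e]
    exact BijS.of_isIso S _
  | succ n hn ih =>
    intro hm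
    have e : ((t.natTransTruncGEOfLE a (n + 1) (by omega)).app E)⟦m⟧' =
        ((t.natTransTruncGEOfLE a n hn).app E)⟦m⟧' ≫
          ((t.natTransTruncGEOfLE n (n + 1) (by omega)).app E)⟦m⟧' := by
      rw [← Functor.map_comp, t.natTransTruncGEOfLE_trans_app]
    rw [e]
    exact (ih (by omega)).comp (bijS_step S E hS n (n + 1) m rfl hm)

variable [HasProduct (CohCx.truncTower E)]
  (hR : CohCx.IsRlimVia (CohCx.truncTower E) (CohCx.truncTowerMap E) E (CohCx.toTruncTower E))

include hS hR in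
/-- the canonical map to a truncation far enough to the left -/
lemma bijS_toTruncTower (m : ℤ) (N : ℕ) (hN : -(N : ℤ) ≤ m) :
    BijS S ((CohCx.toTruncTower E N)⟦m⟧') := by
  have hv : ∀ n : ℕ, N ≤ n → ∀ k : ℕ, (k : ℤ) = m + n + 1 →
      Subsingleton (Abelian.Ext.{w'} S ((homologyFunctor A (m - k)).obj E) k) :=
    fun n hn k hk => hS _ k (by omega)
  obtain ⟨hlim, hinj⟩ := tower_hyps S E m N hv
  have hmil := Groth.Agent.S0943.milnor ((singleFunctor A 0).obj S)
    (CohCx.truncTower E) (CohCx.truncTowerMap E) E (CohCx.toTruncTower E) hR m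
  constructor
  · intro x y hxy
    have h0 : (x - y) ≫ (CohCx.toTruncTower E N)⟦m⟧' = 0 := by
      rw [Preadditive.sub_comp]
      exact sub_eq_zero.2 hxy
    have h1 : x - y = 0 := by
      refine hmil.2 hlim (x - y) (fun n => ?_)
      by_cases hn : N ≤ n
      · obtain ⟨k, rfl⟩ := Nat.exists_eq_add_of_le hn
        apply hinj k
        change ((x - y) ≫ (CohCx.toTruncTower E (N + k))⟦m⟧') ≫
            (CohCx.transition (CohCx.truncTower E) (CohCx.truncTowerMap E) N k)⟦m⟧' =
          (0 : _ ⟶ (CohCx.truncTower E (N + k))⟦m⟧) ≫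
            (CohCx.transition (CohCx.truncTower E) (CohCx.truncTowerMap E) N k)⟦m⟧'
        rw [Category.assoc, ← Functor.map_comp,
          Groth.Agent.S0880.a_transition (CohCx.truncTower E) (CohCx.truncTowerMap E) E
            (CohCx.toTruncTower E) hR, Limits.zero_comp]
        exact h0
      · obtain ⟨k, rfl⟩ := Nat.exists_eq_add_of_le (Nat.le_of_not_le hn)
        rw [← Groth.Agent.S0880.a_transition (CohCx.truncTower E) (CohCx.truncTowerMap E) E
          (CohCx.toTruncTower E) hR n k, Functor.map_comp, ← Category.assoc]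
        rw [h0, Limits.zero_comp]
    exact sub_eq_zero.1 h1
  · intro z
    obtain ⟨x, hx, hxN⟩ := Groth.Agent.Lib.Helper74.ModTrunc.Dev.exists_compatible N
      (fun k => (singleFunctor A 0).obj S ⟶ (CohCx.truncTower E k)⟦m⟧)
      (fun k φ => φ ≫ (CohCx.truncTowerMap E k)⟦m⟧')
      (fun k hk ψ => trans_surjective S E (-((k + 1 : ℕ) : ℤ)) (-(k : ℤ)) m
        (by push_cast; omega) (fun j hj => hS _ j (by push_cast at hj; omega)) ψ) z
    obtain ⟨y, hy⟩ := hmil.1 x hx
    exact ⟨y, (hy N).trans hxN⟩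

include hS hR in
/-- the canonical map to any truncation `τ_{≥ a}` with `a ≤ m` -/
theorem bijS_truncGEπ (a m : ℤ) (ham : a ≤ m) :
    BijS S (((t.truncGEπ a).app E)⟦m⟧') := by
  obtain ⟨N, hN⟩ : ∃ N : ℕ, -(N : ℤ) ≤ a := ⟨(-a).toNat, by omega⟩
  have e : ((t.truncGEπ a).app E)⟦m⟧' =
      (CohCx.toTruncTower E N)⟦m⟧' ≫ ((t.natTransTruncGEOfLE (-(N : ℤ)) a hN).app E)⟦m⟧' := by
    rw [← Functor.map_comp, t.π_natTransTruncGEOfLE_app]
  rw [e]
  exact (bijS_toTruncTower S E hS hR m N (by omega)).comp (bijS_natTrans S E hS (-(N : ℤ)) m a hN ham)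

include hS hR in
/-- `h0` is bijective on maps `S[0] ⟶ E⟦m⟧` -/
theorem h0Bij_shift [EnoughInjectives A] (m : ℤ) : H0Bij S (E⟦m⟧) := by
  have hge : (((t.truncGE m).obj E)⟦m⟧).IsGE 0 := t.isGE_shift _ m m 0 (by omega)
  refine h0Bij_of_bijS S (((t.truncGEπ m).app E)⟦m⟧') ?_ (bijS_truncGEπ S E hS hR m m le_rfl)
  let σ := (homologyFunctor A 0).shiftIso m 0 m (by simp)
  have h1 : IsIso ((homologyFunctor A m).map ((t.truncGEπ m).app E)) :=
    Groth.Agent.Lib.Helper58.isIso_homology_truncGEπ E m m le_rfl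
  exact (NatIso.isIso_map_iff σ ((t.truncGEπ m).app E)).2 h1

include hS hR in
/-- `h0` is bijective on maps `S[0] ⟶ E` -/
theorem h0Bij [EnoughInjectives A] : H0Bij S E :=
  (h0Bij_shift S E hS hR 0).of_iso ((shiftFunctorZero (DerivedCategory A) ℤ).app E)

end

end Groth.Agent.Lib.Helper30.DQC
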