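import Mathlib
import Groth.Prelude.Def_DCoh2
import Groth.Agent.Lib.Helper30.DQC.TowerHom
import Groth.Agent.Lib.Helper30.DQC.SchemeTower
import Groth.Agent.S0007

/-!
# Maps out of the structure sheaf in `D_QCoh` of an affine scheme (helper30)

* `subsingleton_ext_unit`: `Ext^k(O_X, M) = 0` for `k > 0`, `X` affine, `M` quasi-coherent.
* `h0Bij_unit_shift`: for `E ∈ D_QCoh(O_X)`, `X` affine, `Hom(O_X[0], E⟦m⟧) → Hom(O_X, H^0(E⟦m⟧))` is bijective.
-/

set_option autoImplicit false
universe u
open CategoryTheory CategoryTheory.Limits AlgebraicGeometry TopologicalSpace Opposite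
attribute [local instance] HasDerivedCategory.standard

namespace Groth.Agent.Lib.Helper30.DQC

section Affine

variable {X : Scheme.{u}}

/-- `Ext` groups of `O_X`-modules (small, as there are enough injectives) -/
instance hasExt_modules : HasExt.{u} X.Modules := hasExt_of_enoughInjectives _

variable (X) in
/-- the structure sheaf as an object of `X.Modules` -/
noncomputable abbrev OX : X.Modules := SheafOfModules.unit X.ringCatSheaf

variable [IsAffine X]

theorem subsingleton_ext_unit (M : X.Modules) (hM : Coh.IsQCoh M) (k : ℕ) (hk : 0 < k) :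
    Subsingleton (Abelian.Ext.{u} (OX X) M k) := by
  have : Coh.IsQCoh M := hM
  have h : Subsingleton (Coh.HH X M k) := Groth.Agent.S0007.result X M k hk
  have e := @Groth.Agent.Lib.Helper83.ModCoh.nonempty_ext_unit_addEquiv_H _ _ _ X.ringCatSheaf
    (hasExt_modules (X := X)) M k
  obtain ⟨e⟩ := e
  exact e.toEquiv.subsingleton

theorem h0Bij_unit_shift (E : DCoh.D X) (hE : DCoh.IsQCohD E) (m : ℤ) :
    H0Bij (OX X) (E⟦m⟧) := by
  have hP := hasProduct_truncTower X E
  exact h0Bij_shift (OX X) E
    (fun q k hk => subsingleton_ext_unit _ (hE q) k hk) (isRlimVia_truncTower E hE) m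

theorem h0Bij_unit (E : DCoh.D X) (hE : DCoh.IsQCohD E) :
    H0Bij (OX X) E := by
  have hP := hasProduct_truncTower X E
  exact h0Bij (OX X) E
    (fun q k hk => subsingleton_ext_unit _ (hE q) k hk) (isRlimVia_truncTower E hE)

end Affine

end Groth.Agent.Lib.Helper30.DQC
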