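import Mathlib
import Groth.Agent.Lib.Helper30.DQC.AffineUnit

/-!
# The structure sheaf detects isomorphisms of quasi-coherent modules on `Spec R` (helper30)

* `isIso_of_bijective_comp`: a map of `R`-modules which induces a bijection on maps out of `R` is an
  isomorphism.
* `isIso_of_bijective_unit_comp`: a map of quasi-coherent modules on `Spec R` which induces a bijection
  on maps out of the structure sheaf is an isomorphism.
-/

set_option autoImplicit false
universe u
open CategoryTheory CategoryTheory.Limits AlgebraicGeometry TopologicalSpace Opposite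

namespace Groth.Agent.Lib.Helper30.DQC

variable {R : CommRingCat.{u}}

/-- in `ModuleCat R`, the module `R` detects isomorphisms -/
theorem isIso_of_bijective_comp {M M' : ModuleCat.{u} R} (ψ : M ⟶ M')
    (h : Function.Bijective (fun f : ModuleCat.of R R ⟶ M => f ≫ ψ)) : IsIso ψ := by
  rw [ConcreteCategory.isIso_iff_bijective]
  constructor
  · intro x y hxy
    let gx : ModuleCat.of R R ⟶ M := ModuleCat.ofHom (LinearMap.toSpanSingleton R M x)
    let gy : ModuleCat.of R R ⟶ M := ModuleCat.ofHom (LinearMap.toSpanSingleton R M y)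
    have h1 : gx ≫ ψ = gy ≫ ψ := by
      ext
      simpa [gx, gy] using hxy
    have h2 := h.1 h1
    have h3 := congrArg (fun g : ModuleCat.of R R ⟶ M => g.hom (1 : R)) h2
    simpa [gx, gy] using h3
  · intro z
    obtain ⟨g, hg⟩ := h.2 (ModuleCat.ofHom (LinearMap.toSpanSingleton R M' z))
    refine ⟨g.hom (1 : R), ?_⟩
    have h3 := congrArg (fun g : ModuleCat.of R R ⟶ M' => g.hom (1 : R)) hg
    simpa using h3

/-- on `Spec R`, the structure sheaf detects isomorphisms of quasi-coherent modules -/
theorem isIso_of_bijective_unit_comp {P P' : (Spec R).Modules}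
    [hP : P.IsQuasicoherent] [hP' : P'.IsQuasicoherent] (ψ : P ⟶ P')
    (h : Function.Bijective (fun f : OX (Spec R) ⟶ P => f ≫ ψ)) : IsIso ψ := by
  let adj := tilde.adjunction (R := R)
  have h1 : Function.Bijective (fun g : ModuleCat.of R R ⟶ moduleSpecΓFunctor.obj P =>
      g ≫ moduleSpecΓFunctor.map ψ) := by
    have e : (fun g : ModuleCat.of R R ⟶ moduleSpecΓFunctor.obj P =>
        g ≫ moduleSpecΓFunctor.map ψ) =
        (adj.homEquiv (ModuleCat.of R R) P') ∘ (fun f : OX (Spec R) ⟶ P => f ≫ ψ) ∘
          (adj.homEquiv (ModuleCat.of R R) P).symm := by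
      funext g
      change g ≫ moduleSpecΓFunctor.map ψ =
        adj.homEquiv (ModuleCat.of R R) P' ((adj.homEquiv (ModuleCat.of R R) P).symm g ≫ ψ)
      rw [Adjunction.homEquiv_naturality_right, Equiv.apply_symm_apply]
    rw [e]
    exact (adj.homEquiv _ _).bijective.comp (h.comp (adj.homEquiv _ _).symm.bijective)
  have h2 : IsIso (moduleSpecΓFunctor.map ψ) := isIso_of_bijective_comp _ h1
  have h3 : IsIso ((tilde.functor R).map (moduleSpecΓFunctor.map ψ)) := inferInstance
  have nat := adj.counit.naturality ψ
  have i1 : IsIso (adj.counit.app P) := (inferInstance : IsIso P.fromTildeΓ)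
  have i2 : IsIso (adj.counit.app P') := (inferInstance : IsIso P'.fromTildeΓ)
  have i3 : IsIso (adj.counit.app P ≫ ψ) := by
    have : adj.counit.app P ≫ ψ =
        (tilde.functor R).map (moduleSpecΓFunctor.map ψ) ≫ adj.counit.app P' := nat.symm
    rw [this]
    infer_instance
  exact IsIso.of_isIso_comp_left (adj.counit.app P) ψ

end Groth.Agent.Lib.Helper30.DQC
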