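import Mathlib
import Groth.Agent.Lib.Helper30.DQC.H0Crit
import Groth.Agent.Lib.Helper6.ExactDC
import Groth.Agent.Lib.Helper35.KLHeart

/-!
# Detecting isomorphisms and full faithfulness in derived categories by maps out of `S[0]` (helper30)

* `isIso_of_bijS_shift`: if `S` detects isomorphisms between objects of a class `P` of `A`, `h0` is
  bijective on maps from `S[0]` to all shifts of `K`, `K'`, whose cohomology objects are in `P`, then a
  map `φ : K ⟶ K'` all of whose shifts induce bijections on maps out of `S[0]` is an isomorphism.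
* `bijective_map_of_h0Bij`: for `F₀ : A ⥤ B` exact and fully faithful, `F₀.mapDerivedCategory` is
  bijective on `Hom(S[0], N)` as soon as `h0` is bijective for `(S, N)` and for `(F₀ S, F N)`.
* `bijS_unit_app`, `bijS_counit_app`, `bijS_shift_unit_app`, `bijS_shift_counit_app`: consequences for
  the unit and counit of an adjunction `F ⊣ G` between derived categories.
* `h0Bij_of_projective`.
-/

set_option autoImplicit false
universe w₁ w₂ v₁ v₂ u₁ u₂

namespace Groth.Agent.Lib.Helper30.DQC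

open CategoryTheory CategoryTheory.Limits DerivedCategory
open Groth.Agent.Lib.Helper83.SingleHom Groth.Agent.Lib.Helper83.H0Bij

variable {A : Type u₁} [Category.{v₁} A] [Abelian A] [HasDerivedCategory.{w₁} A]

theorem h0Bij_of_projective [EnoughInjectives A] (P : A) [Projective P] (K : DerivedCategory A) :
    H0Bij P K :=
  h0Bij_of_bijS P ((TStructure.t.truncGEπ 0).app K)
    (Groth.Agent.Lib.Helper35.KL.isIso_homology_map_truncGEπ K)
    (Groth.Agent.Lib.Helper35.KL.postcomp_truncGEπ_bijective K)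

theorem isIso_of_bijS_shift (S : A) (P : ObjectProperty A) [P.IsClosedUnderIsomorphisms]
    (hdet : ∀ {M M' : A} (ψ : M ⟶ M'), P M → P M' →
      Function.Bijective (fun f : S ⟶ M => f ≫ ψ) → IsIso ψ)
    {K K' : DerivedCategory A} (φ : K ⟶ K')
    (hK : ∀ m, P ((homologyFunctor A m).obj K)) (hK' : ∀ m, P ((homologyFunctor A m).obj K'))
    (h0K : ∀ m : ℤ, H0Bij S (K⟦m⟧)) (h0K' : ∀ m : ℤ, H0Bij S (K'⟦m⟧))
    (hb : ∀ m : ℤ, BijS S (φ⟦m⟧')) : IsIso φ := by
  rw [DerivedCategory.isIso_iff]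
  intro m
  let σ := (homologyFunctor A 0).shiftIso m 0 m (by simp)
  refine (NatIso.isIso_map_iff σ φ).1 ?_
  change IsIso ((homologyFunctor A 0).map (φ⟦m⟧'))
  refine hdet _ (P.prop_of_iso (σ.app K).symm (hK m)) (P.prop_of_iso (σ.app K').symm (hK' m)) ?_
  exact bijective_comp_H0_map (φ⟦m⟧') (h0K m) (h0K' m) (hb m)

section Exact

variable {B : Type u₂} [Category.{v₂} B] [Abelian B] [HasDerivedCategory.{w₂} B]
  (F₀ : A ⥤ B) [F₀.Additive] [PreservesFiniteLimits F₀] [PreservesFiniteColimits F₀]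

open Groth.Agent.Lib.Helper6 in
/-- the key formula: `h0` of the image of a map out of `S[0]` -/
lemma exists_iso_h0_map (S : A) :
    ∃ (θ : F₀.obj S ≅ F₀.obj ((homologyFunctor A 0).obj ((singleFunctor A 0).obj S))),
      ∀ (N : DerivedCategory A) (x : (singleFunctor A 0).obj S ⟶ N),
        h0 (((F₀.mapDerivedCategorySingleFunctor 0).app S).inv ≫ F₀.mapDerivedCategory.map x) =
          θ.hom ≫ F₀.map ((homologyFunctor A 0).map x) ≫ (ExactDC.homologyIso F₀ 0).inv.app N := by
  let ι := (F₀.mapDerivedCategorySingleFunctor 0).app S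
  refine ⟨e.symm.app (F₀.obj S) ≪≫ (homologyFunctor B 0).mapIso ι.symm ≪≫
    (ExactDC.homologyIso F₀ 0).app ((singleFunctor A 0).obj S), fun N x => ?_⟩
  change e.inv.app (F₀.obj S) ≫ (homologyFunctor B 0).map (ι.inv ≫ F₀.mapDerivedCategory.map x) = _
  rw [Functor.map_comp, ExactDC.homology_map_eq]
  simp only [Iso.trans_hom, Iso.app_hom, Iso.symm_hom, Functor.mapIso_hom, Category.assoc]

variable [F₀.Full] [F₀.Faithful]

open Groth.Agent.Lib.Helper6 in
theorem bijective_map_of_h0Bij (S : A) (N : DerivedCategory A) (h1 : H0Bij S N)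
    (h2 : H0Bij (F₀.obj S) (F₀.mapDerivedCategory.obj N)) :
    Function.Bijective (fun x : (singleFunctor A 0).obj S ⟶ N => F₀.mapDerivedCategory.map x) := by
  obtain ⟨θ, hθ⟩ := exists_iso_h0_map F₀ S
  let ι := (F₀.mapDerivedCategorySingleFunctor 0).app S
  have key : ∀ x : (singleFunctor A 0).obj S ⟶ N,
      h0 (ι.inv ≫ F₀.mapDerivedCategory.map x) =
        (θ.hom ≫ F₀.map (e.hom.app S)) ≫ F₀.map (h0 x) ≫
          (ExactDC.homologyIso F₀ 0).inv.app N := by
    intro x
    rw [hθ N x]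
    have : (homologyFunctor A 0).map x = e.hom.app S ≫ h0 x := by
      change _ = e.hom.app S ≫ e.inv.app S ≫ (homologyFunctor A 0).map x
      rw [Iso.hom_inv_id_app_assoc]
    rw [this, Functor.map_comp]
    simp only [Category.assoc]
  have iθ : IsIso (θ.hom ≫ F₀.map (e.hom.app S)) := inferInstance
  constructor
  · intro x y hxy
    have hxy' : F₀.mapDerivedCategory.map x = F₀.mapDerivedCategory.map y := hxy
    have h3 : h0 (ι.inv ≫ F₀.mapDerivedCategory.map x) =
        h0 (ι.inv ≫ F₀.mapDerivedCategory.map y) := by rw [hxy']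
    rw [key x, key y] at h3
    have h4 := (cancel_epi _).1 h3
    have h5 := (cancel_mono _).1 h4
    exact h1.1 (F₀.map_injective h5)
  · intro z
    let w : F₀.obj S ⟶ F₀.obj ((homologyFunctor A 0).obj N) :=
      inv (θ.hom ≫ F₀.map (e.hom.app S)) ≫ h0 (ι.inv ≫ z) ≫ (ExactDC.homologyIso F₀ 0).hom.app N
    obtain ⟨g, hg⟩ := F₀.map_surjective w
    obtain ⟨x, hx⟩ := h1.2 g
    refine ⟨x, ?_⟩
    have h3 : h0 (ι.inv ≫ F₀.mapDerivedCategory.map x) = h0 (ι.inv ≫ z) := by
      rw [key x, hx, hg]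
      simp only [w, Category.assoc, IsIso.hom_inv_id_assoc, Iso.hom_inv_id_app]
      exact Category.comp_id _
    have h4 := h2.1 h3
    exact (cancel_epi ι.inv).1 h4

end Exact

section Adjunction

variable {B : Type u₂} [Category.{v₂} B] [Abelian B] [HasDerivedCategory.{w₂} B]
  {F : DerivedCategory A ⥤ DerivedCategory B} {G : DerivedCategory B ⥤ DerivedCategory A}
  (adj : F ⊣ G)

include adj in
theorem bijS_unit_app (S : A) (N : DerivedCategory A)
    (h : Function.Bijective (fun x : (singleFunctor A 0).obj S ⟶ N => F.map x)) :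
    BijS S (adj.unit.app N) := by
  have e : (fun x : (singleFunctor A 0).obj S ⟶ N => x ≫ adj.unit.app N) =
      (adj.homEquiv _ _) ∘ (fun x : (singleFunctor A 0).obj S ⟶ N => F.map x) := by
    funext x
    change x ≫ adj.unit.app N = adj.homEquiv _ _ (F.map x)
    rw [Adjunction.homEquiv_unit]
    exact adj.unit.naturality x
  change Function.Bijective (fun x : (singleFunctor A 0).obj S ⟶ N => x ≫ adj.unit.app N)
  rw [e]
  exact (adj.homEquiv _ _).bijective.comp h

include adj in
theorem bijS_counit_app (S : A) (T : B)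
    (ι : F.obj ((singleFunctor A 0).obj S) ≅ (singleFunctor B 0).obj T) (Y : DerivedCategory B)
    (h : Function.Bijective (fun x : (singleFunctor A 0).obj S ⟶ G.obj Y => F.map x)) :
    BijS T (adj.counit.app Y) := by
  constructor
  · intro z₁ z₂ hz
    have hz' : z₁ ≫ adj.counit.app Y = z₂ ≫ adj.counit.app Y := hz
    obtain ⟨x₁, hx₁⟩ := h.2 (ι.hom ≫ z₁)
    obtain ⟨x₂, hx₂⟩ := h.2 (ι.hom ≫ z₂)
    have hx₁' : F.map x₁ = ι.hom ≫ z₁ := hx₁
    have hx₂' : F.map x₂ = ι.hom ≫ z₂ := hx₂
    have h3 : (adj.homEquiv _ _).symm x₁ = (adj.homEquiv _ _).symm x₂ := by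
      rw [Adjunction.homEquiv_counit, Adjunction.homEquiv_counit, hx₁', hx₂', Category.assoc,
        Category.assoc, hz']
    have h4 := (adj.homEquiv _ _).symm.injective h3
    rw [h4, hx₂'] at hx₁'
    exact ((cancel_epi ι.hom).1 hx₁').symm
  · intro y
    refine ⟨ι.inv ≫ F.map (adj.homEquiv _ _ (ι.hom ≫ y)), ?_⟩
    change (ι.inv ≫ F.map (adj.homEquiv _ _ (ι.hom ≫ y))) ≫ adj.counit.app Y = y
    have h5 : F.map (adj.homEquiv _ _ (ι.hom ≫ y)) ≫ adj.counit.app Y = ι.hom ≫ y := by
      have h6 := (adj.homEquiv_counit (g := adj.homEquiv _ Y (ι.hom ≫ y))).symm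
      rwa [Equiv.symm_apply_apply] at h6
    rw [Category.assoc, h5, Iso.inv_hom_id_assoc]

variable [F.CommShift ℤ] [G.CommShift ℤ] [adj.CommShift ℤ]

include adj in
theorem bijS_shift_unit_app (S : A) (N : DerivedCategory A) (m : ℤ)
    (h : BijS S (adj.unit.app (N⟦m⟧))) : BijS S ((adj.unit.app N)⟦m⟧') := by
  rw [Adjunction.shift_unit_app]
  exact h.comp ((BijS.of_isIso S _).comp (BijS.of_isIso S _))

include adj in
theorem bijS_shift_counit_app (T : B) (Y : DerivedCategory B) (m : ℤ)
    (h : BijS T (adj.counit.app (Y⟦m⟧))) : BijS T ((adj.counit.app Y)⟦m⟧') := by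
  rw [Adjunction.shift_counit_app]
  exact (BijS.of_isIso T _).comp ((BijS.of_isIso T _).comp h)

end Adjunction

end Groth.Agent.Lib.Helper30.DQC
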