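import Mathlib
import Groth.Prelude.Def_DCoh2
import Groth.Agent.Lib.Helper30.DQC.Generic
import Groth.Agent.Lib.Helper30.DQC.AffineDetect
import Groth.Agent.Lib.Helper83.DerivedPush
import Groth.Agent.Lib.Helper32.OpenKInj

/-!
# `D(R) ≃ D_QCoh(O_{Spec R})` (helper30)

The functor `tildeD R : D(R) ⥤ D(O_{Spec R})` has the right adjoint `RΓ`; the unit is an isomorphism
(so `tildeD R` is fully faithful), and the counit is an isomorphism on objects with quasi-coherent
cohomology sheaves (so the essential image is `D_QCoh`).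
-/

set_option autoImplicit false
universe u
open CategoryTheory CategoryTheory.Limits AlgebraicGeometry TopologicalSpace Opposite
attribute [local instance] HasDerivedCategory.standard

namespace Groth.Agent.Lib.Helper30.DQC.TildeFF

open Groth.Agent.Lib.Helper83.DerivedPush Groth.Agent.Lib.Helper32.KInjDerived
open DerivedCategory

variable (R : CommRingCat.{u}) [PreservesFiniteLimits (tilde.functor R)]

/-- quasi-coherence, as a property of objects of `X.Modules` -/
def qc (X : Scheme.{u}) : ObjectProperty X.Modules := fun M => Coh.IsQCoh M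

instance (X : Scheme.{u}) : (qc X).IsClosedUnderIsomorphisms where
  of_iso e h := (SheafOfModules.isQuasicoherent X.ringCatSheaf).prop_of_iso e h

/-- `M~` has quasi-coherent cohomology sheaves -/
theorem isQCohD_tildeD (M : DerivedCategory (ModuleCat.{u} R)) :
    DCoh.IsQCohD ((DCoh.tildeD R).obj M) := by
  intro i
  exact (SheafOfModules.isQuasicoherent (Spec (CommRingCat.of R)).ringCatSheaf).prop_of_iso
    ((Groth.Agent.Lib.Helper6.ExactDC.homologyIso (tilde.functor R) i).app M).symm
    (by dsimp [SheafOfModules.isQuasicoherent]; infer_instance)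

instance additive_Γ : (moduleSpecΓFunctor (R := R)).Additive :=
  (tilde.adjunction (R := R)).right_adjoint_additive

omit [PreservesFiniteLimits (tilde.functor R)] in
/-- K-injective resolutions of complexes of `O_{Spec R}`-modules -/
theorem hB : HasKInjRes (Spec (CommRingCat.of R)).Modules :=
  Groth.Agent.Lib.Helper32.OpenKInj.hasKInjRes _

/-- `RΓ : D(O_{Spec R}) ⥤ D(R)` -/
noncomputable def G : DCoh.D (Spec (CommRingCat.of R)) ⥤ DerivedCategory (ModuleCat.{u} R) :=
  RG (moduleSpecΓFunctor (R := R)) (hB R)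

/-- the adjunction `tildeD ⊣ RΓ` -/
noncomputable def adj : DCoh.tildeD R ⊣ G R :=
  adjD (tilde.adjunction (R := R)) (hB R)

noncomputable instance commShiftG : (G R).CommShift ℤ := (adj R).rightAdjointCommShift ℤ

instance commShiftAdj : (adj R).CommShift ℤ := (adj R).commShift_of_leftAdjoint ℤ

/-- `tildeD` is bijective on maps out of `R[0]` -/
theorem bijective_map (N : DerivedCategory (ModuleCat.{u} R)) :
    Function.Bijective (fun x : (singleFunctor (ModuleCat.{u} R) 0).obj (ModuleCat.of R R) ⟶ N =>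
      (DCoh.tildeD R).map x) :=
  bijective_map_of_h0Bij (tilde.functor R) (ModuleCat.of R R) N (h0Bij_of_projective _ N)
    (h0Bij_unit _ (isQCohD_tildeD R N))

theorem isIso_unit_app (N : DerivedCategory (ModuleCat.{u} R)) : IsIso ((adj R).unit.app N) := by
  refine isIso_of_bijS_shift (ModuleCat.of R R) ⊤ (fun ψ _ _ h => isIso_of_bijective_comp ψ h) _
    (fun _ => trivial) (fun _ => trivial) (fun m => h0Bij_of_projective _ _)
    (fun m => h0Bij_of_projective _ _) (fun m => ?_)
  exact bijS_shift_unit_app (adj R) _ N m (bijS_unit_app (adj R) _ _ (bijective_map R _))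

theorem isIso_counit_app (K : DCoh.D (Spec (CommRingCat.of R))) (hK : DCoh.IsQCohD K) :
    IsIso ((adj R).counit.app K) := by
  refine isIso_of_bijS_shift (OX (Spec (CommRingCat.of R))) (qc (Spec (CommRingCat.of R)))
    (fun ψ hM hM' h => @isIso_of_bijective_unit_comp R _ _ hM hM' ψ h) _
    (fun m => isQCohD_tildeD R _ m) hK
    (fun m => h0Bij_unit_shift _ (isQCohD_tildeD R _) m) (fun m => h0Bij_unit_shift _ hK m)
    (fun m => ?_)
  refine bijS_shift_counit_app (adj R) (OX (Spec (CommRingCat.of R))) K m ?_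
  exact bijS_counit_app (adj R) (ModuleCat.of R R) (OX (Spec (CommRingCat.of R)))
    (((tilde.functor R).mapDerivedCategorySingleFunctor 0).app (ModuleCat.of R R)) (K⟦m⟧)
    (bijective_map R _)

/-- `D(R) ≃ D_QCoh(O_{Spec R})` -/
theorem main : (DCoh.tildeD R).Full ∧ (DCoh.tildeD R).Faithful ∧
    ∀ K : DCoh.D (Spec (CommRingCat.of R)),
      DCoh.IsQCohD K ↔ ∃ M, Nonempty ((DCoh.tildeD R).obj M ≅ K) := by
  have hu : ∀ N, IsIso ((adj R).unit.app N) := isIso_unit_app R
  have hu' : IsIso (adj R).unit := NatIso.isIso_of_isIso_app _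
  have ff := (adj R).fullyFaithfulLOfIsIsoUnit
  refine ⟨ff.full, ff.faithful, fun K => ⟨fun hK => ⟨(G R).obj K,
    ⟨@asIso _ _ _ _ ((adj R).counit.app K) (isIso_counit_app R K hK)⟩⟩, ?_⟩⟩
  rintro ⟨M, ⟨e⟩⟩ i
  exact (SheafOfModules.isQuasicoherent (Spec (CommRingCat.of R)).ringCatSheaf).prop_of_iso
    ((homologyFunctor _ i).mapIso e) (isQCohD_tildeD R M i)

end Groth.Agent.Lib.Helper30.DQC.TildeFF
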